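import Cfsg.Agent.EqLemmas
import Mathlib.LinearAlgebra.Matrix.SchurComplement
import Mathlib.GroupTheory.GroupAction.MultipleTransitivity

/-!
Automorphisms of odd order of doubly transitive groups (owner: helper77).

Main results (namespace `Cfsg.Agent.TwistOrbit`):
* `exists_perm_of_coprime_orbit` : if the image of a point stabilizer under an automorphism of odd
  order has an orbit of length prime to the degree, then the automorphism is induced by a permutation,
  and the orbit has length `1` or `n - 1`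
* `exists_perm_of_hall` : the case of a Hall point stabilizer
-/

set_option autoImplicit false

namespace Cfsg.Agent.TwistOrbit

open MulAction Matrix

universe u v

/-- The arithmetic at the end. -/
theorem arith {n k a c : ℤ} {t : ℕ} (hk0 : 0 < k) (hkn : k < n) (hco : IsCoprime k n)
    (hrel : a * (n - 1) = k * (n - k)) (hcong : n ∣ k ^ (2 * t + 1) - c)
    (hpow : a ^ (2 * t + 1) = c ^ 2) : k = 1 ∨ k = n - 1 := by
  have ha : 0 < a := by
    have h1 : 0 < k * (n - k) := mul_pos hk0 (by linarith)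
    rw [← hrel] at h1
    exact (pos_iff_pos_of_mul_pos h1).mpr (by linarith)
  obtain ⟨r0, hr0⟩ : a ^ t ∣ c := by
    rw [← Int.pow_dvd_pow_iff two_ne_zero, ← hpow, ← pow_mul, mul_comm t 2]
    exact pow_dvd_pow a (by omega)
  have hr2 : r0 ^ 2 = a := by
    rw [hr0, mul_pow, ← pow_mul, mul_comm t 2, pow_succ] at hpow
    exact (mul_left_cancel₀ (pow_ne_zero _ ha.ne') hpow).symm
  obtain ⟨r, ε, hr, hε, hre⟩ : ∃ r ε : ℤ, 0 < r ∧ (ε = 1 ∨ ε = -1) ∧ r0 = ε * r := by
    rcases lt_trichotomy r0 0 with h | h | h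
    · exact ⟨-r0, -1, by linarith, Or.inr rfl, by ring⟩
    · rw [h] at hr2; rw [← hr2] at ha; norm_num at ha
    · exact ⟨r0, 1, h, Or.inl rfl, by ring⟩
  have hra : r ^ 2 = a := by
    rw [← hr2, hre]
    rcases hε with h | h <;> rw [h] <;> ring
  rw [hr0, hre] at hcong
  rw [← hra] at hrel hcong
  have hsq : n ∣ k ^ 2 - r ^ 2 := ⟨k - r ^ 2, by linear_combination hrel⟩
  have h1 : n ∣ k - ε * r := by
    have h2 : n ∣ (k ^ 2) ^ t - (r ^ 2) ^ t := hsq.trans (sub_dvd_pow_sub_pow _ _ t)
    have h3 : n ∣ k ^ (2 * t) * (k - ε * r) := by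
      have e : k ^ (2 * t) * (k - ε * r) =
          (k ^ (2 * t + 1) - (r ^ 2) ^ t * (ε * r)) - ε * r * ((k ^ 2) ^ t - (r ^ 2) ^ t) := by ring
      rw [e]
      exact dvd_sub hcong (dvd_mul_of_dvd_right h2 _)
    exact (hco.symm.pow_right (n := 2 * t)).dvd_of_dvd_mul_left h3
  obtain ⟨j, hj⟩ := h1
  have hn1 : 1 < n := by linarith
  have hrn : r < n := by
    by_contra h
    nlinarith [mul_le_mul (not_lt.mp h) (not_lt.mp h) (by linarith) hr.le]
  rcases hε with rfl | rfl
  · rw [one_mul] at hj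
    have hj0 : j = 0 := by
      rcases lt_trichotomy j 0 with h | h | h
      · nlinarith
      · exact h
      · nlinarith
    rw [hj0, mul_zero, sub_eq_zero] at hj
    subst hj
    left
    have h5 : k * ((n - k) - k * (n - 1)) = 0 := by linear_combination -hrel
    rcases mul_eq_zero.mp h5 with h | h
    · linarith
    · have h6 : n * (1 - k) = 0 := by linear_combination h
      rcases mul_eq_zero.mp h6 with h | h <;> linarith
  · rw [neg_mul, one_mul, sub_neg_eq_add] at hj
    have hj1 : j = 1 := by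
      rcases lt_trichotomy j 1 with h | h | h
      · nlinarith
      · exact h
      · nlinarith
    rw [hj1, mul_one] at hj
    right
    have hk' : k = n - r := by linarith
    rw [hk'] at hrel
    have h5 : r * n * (r - 1) = 0 := by linear_combination hrel
    rcases mul_eq_zero.mp h5 with h | h
    · rcases mul_eq_zero.mp h with h | h <;> linarith
    · linarith

variable {G : Type u} {Ω : Type v} [Group G] [MulAction G Ω]

/-- Invariance of a matrix under a twisted pair of actions. -/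
def Inv (β : MulAut G) (X : Matrix Ω Ω ℤ) : Prop := ∀ (h : G) (x y : Ω), X (h • x) (β h • y) = X x y

theorem Inv.mul [Fintype Ω] {β γ : MulAut G} {X Y : Matrix Ω Ω ℤ} (hX : Inv β X) (hY : Inv γ Y) :
    Inv (γ * β) (X * Y) := by
  intro h x y
  rw [Matrix.mul_apply, Matrix.mul_apply]
  refine (Fintype.sum_equiv (MulAction.toPerm (β h)) _ _ fun z => ?_).symm
  show _ = X (h • x) (β h • z) * Y (β h • z) (γ (β h) • y)
  rw [hX, hY]

theorem Inv.one [DecidableEq Ω] : Inv (1 : MulAut G) (1 : Matrix Ω Ω ℤ) := by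
  intro h x y
  simp [Matrix.one_apply]

theorem Inv.pow [Fintype Ω] [DecidableEq Ω] {β : MulAut G} {X : Matrix Ω Ω ℤ} (hX : Inv β X) :
    ∀ j : ℕ, Inv (β ^ j) (X ^ j)
  | 0 => by simpa using Inv.one
  | j + 1 => by rw [pow_succ' β, pow_succ X]; exact (Inv.pow hX j).mul hX

theorem Inv.transpose {β : MulAut G} {X : Matrix Ω Ω ℤ} (hX : Inv β X) : Inv β⁻¹ Xᵀ := by
  intro h x y
  show X (β⁻¹ h • y) (h • x) = X y x
  conv_rhs => rw [← hX (β⁻¹ h) y x]
  rw [MulAut.apply_inv_self]

theorem Inv.eq_aI_add_bJ [Fintype Ω] [DecidableEq Ω] (h2 : IsMultiplyPretransitive G Ω 2)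
    {X : Matrix Ω Ω ℤ} (hX : Inv (1 : MulAut G) X) {x₀ y₀ : Ω} (hne : x₀ ≠ y₀) :
    ∀ x y, X x y = if x = y then X x₀ x₀ else X x₀ y₀ := by
  have : IsPretransitive G Ω := isPretransitive_of_is_two_pretransitive
  intro x y
  split_ifs with h
  · obtain ⟨g, rfl⟩ := exists_smul_eq G x₀ x
    subst h
    exact hX g x₀ x₀
  · obtain ⟨g, rfl, rfl⟩ := is_two_pretransitive_iff.mp h2 hne h
    exact hX g x₀ y₀

theorem det_aI_add_bJ [Fintype Ω] [DecidableEq Ω] {X : Matrix Ω Ω ℤ} {a b : ℤ} (ha : a ≠ 0)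
    (hX : ∀ x y, X x y = (if x = y then a else 0) + b) :
    X.det * a = a ^ Fintype.card Ω * (a + b * Fintype.card Ω) := by
  have haq : (a : ℚ) ≠ 0 := Int.cast_ne_zero.mpr ha
  have h : (Int.castRingHom ℚ).mapMatrix X =
      (a : ℚ) • (1 + replicateCol Unit (fun _ : Ω => (b : ℚ) / a) * replicateRow Unit (fun _ : Ω => (1 : ℚ))) := by
    ext x y
    simp only [RingHom.mapMatrix_apply, Matrix.map_apply, Matrix.smul_apply, Matrix.add_apply, Matrix.mul_apply,
      Fintype.univ_unit, Finset.sum_singleton, replicateCol_apply, replicateRow_apply, smul_eq_mul, hX,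
      Matrix.one_apply, mul_one, mul_add, mul_ite, mul_zero]
    rw [mul_div_cancel₀ _ haq]
    split_ifs <;> simp
  have hd := congrArg Matrix.det h
  rw [← RingHom.map_det, Matrix.det_smul, det_one_add_replicateCol_mul_replicateRow] at hd
  simp only [eq_intCast, dotProduct, one_mul, Finset.sum_const, Finset.card_univ, nsmul_eq_mul] at hd
  have : ((X.det * a : ℤ) : ℚ) = ((a ^ Fintype.card Ω * (a + b * Fintype.card Ω) : ℤ) : ℚ) := by
    rw [Int.cast_mul, hd]
    push_cast
    field_simp
  exact_mod_cast this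

theorem exists_perm_of_fixed [Finite G] [Finite Ω] [IsPretransitive G Ω] (o w : Ω) (α : MulAut G)
    (hw : ∀ h ∈ stabilizer G o, α h • w = w) :
    ∃ σ : Equiv.Perm Ω, ∀ (g : G) (x : Ω), σ (g • x) = α g • σ x := by
  choose f hf using fun x : Ω => exists_smul_eq G o x
  have key : ∀ (g : G) (x : Ω), α (f (g • x)) • w = α g • (α (f x) • w) := by
    intro g x
    have h1 : (f (g • x))⁻¹ * (g * f x) ∈ stabilizer G o := by
      rw [mem_stabilizer_iff, mul_smul, mul_smul, hf, inv_smul_eq_iff, hf]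
    have h2 := hw _ h1
    rw [map_mul, map_inv, mul_smul, inv_smul_eq_iff, map_mul, mul_smul] at h2
    exact h2.symm
  have hsurj : Function.Surjective (fun x : Ω => α (f x) • w) := by
    intro y
    obtain ⟨g, rfl⟩ := exists_smul_eq G w y
    refine ⟨α.symm g • o, ?_⟩
    have := key (α.symm g) o
    simp only at this ⊢
    rw [this, MulEquiv.apply_symm_apply]
    congr 1
    exact hw _ (mem_stabilizer_iff.mpr (hf o))
  exact ⟨Equiv.ofBijective _ ⟨Finite.injective_iff_surjective.mpr hsurj, hsurj⟩, fun g x => key g x⟩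

/-- The theorem. -/
theorem exists_perm_of_coprime_orbit [Finite G] [Fintype Ω] (h2 : IsMultiplyPretransitive G Ω 2) (o : Ω)
    (α : MulAut G) (hα : Odd (orderOf α)) (ω : Ω)
    (hk : (Nat.card (orbit ((stabilizer G o).map α.toMonoidHom) ω)).Coprime (Fintype.card Ω)) :
    (∃ σ : Equiv.Perm Ω, ∀ (g : G) (x : Ω), σ (g • x) = α g • σ x) ∧
      (Nat.card (orbit ((stabilizer G o).map α.toMonoidHom) ω) = 1 ∨
        Nat.card (orbit ((stabilizer G o).map α.toMonoidHom) ω) = Fintype.card Ω - 1) := by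
  classical
  have : IsPretransitive G Ω := isPretransitive_of_is_two_pretransitive
  set K := (stabilizer G o).map α.toMonoidHom with hK
  set k := Nat.card (orbit K ω) with hkdef
  set n := Fintype.card Ω with hn
  have hkn : k ≤ n := by
    rw [hkdef, hn, ← Nat.card_eq_fintype_card]
    exact Nat.card_le_card_of_injective _ Subtype.val_injective
  have hk0 : 0 < k := by
    have : Nonempty (orbit K ω) := ⟨⟨ω, mem_orbit_self ω⟩⟩
    exact Nat.card_pos
  rcases le_or_gt n 1 with hn1 | hn1
  · have : Subsingleton Ω := Fintype.card_le_one_iff_subsingleton.mp hn1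
    exact ⟨⟨1, fun g x => Subsingleton.elim _ _⟩, Or.inl (by omega)⟩
  -- the incidence matrix
  let M : Matrix Ω Ω ℤ := fun x y => if ∃ g : G, g • o = x ∧ α g • ω = y then 1 else 0
  have hM : Inv α M := by
    intro h x y
    show (if _ then (1 : ℤ) else 0) = if _ then 1 else 0
    refine if_congr ⟨?_, ?_⟩ rfl rfl
    · rintro ⟨g, hg, hg'⟩
      exact ⟨h⁻¹ * g, by rw [mul_smul, hg, inv_smul_smul],
        by rw [map_mul, map_inv, mul_smul, hg', inv_smul_smul]⟩
    · rintro ⟨g, hg, hg'⟩
      exact ⟨h * g, by rw [mul_smul, hg], by rw [map_mul, mul_smul, hg']⟩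
  have hrowo : ∀ y, M o y = if y ∈ orbit K ω then (1 : ℤ) else 0 := by
    intro y
    refine if_congr ⟨?_, ?_⟩ rfl rfl
    · rintro ⟨g, hg, rfl⟩
      exact ⟨⟨α g, Subgroup.mem_map_of_mem _ hg⟩, rfl⟩
    · rintro ⟨⟨_, g, hg, rfl⟩, rfl⟩
      exact ⟨g, hg, rfl⟩
  have hrow : ∀ x, ∑ y, M x y = (k : ℤ) := by
    intro x
    obtain ⟨g, rfl⟩ := exists_smul_eq G o x
    rw [← Fintype.sum_equiv (MulAction.toPerm (α g)) (fun y => M o y) (fun y => M (g • o) y)
      (fun y => (hM g o y).symm)]
    simp only [hrowo]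
    rw [Finset.sum_boole, hkdef, Nat.card_eq_fintype_card, Fintype.card_subtype]
  have hcol : ∀ y, ∑ x, M x y = (k : ℤ) := by
    have hconst : ∀ y, ∑ x, M x y = ∑ x, M x ω := by
      intro y
      obtain ⟨g, rfl⟩ := exists_smul_eq G ω y
      refine (Fintype.sum_equiv (MulAction.toPerm (α.symm g)) _ _ fun x => ?_).symm
      have := hM (α.symm g) x ω
      rw [MulEquiv.apply_symm_apply] at this
      exact this.symm
    intro y
    have htot : (n : ℤ) * ∑ x, M x y = n * k := by
      calc (n : ℤ) * ∑ x, M x y = ∑ y' : Ω, ∑ x, M x y' := by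
            rw [Finset.sum_congr rfl (fun y' _ => (hconst y').trans (hconst y).symm), Finset.sum_const,
              Finset.card_univ, nsmul_eq_mul]
        _ = ∑ x, ∑ y', M x y' := Finset.sum_comm
        _ = n * k := by rw [Finset.sum_congr rfl (fun x _ => hrow x), Finset.sum_const, Finset.card_univ,
              nsmul_eq_mul]
    exact mul_left_cancel₀ (by exact_mod_cast (by omega : n ≠ 0)) htot
  rcases hkn.eq_or_lt with hkeq | hkn
  · rw [hkeq, Nat.coprime_self] at hk
    omega
  obtain ⟨x₀, y₀, hne⟩ := Fintype.exists_pair_of_one_lt_card hn1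
  -- the product with the transpose
  have hMM : Inv (1 : MulAut G) (M * Mᵀ) := by
    have := hM.mul hM.transpose
    rwa [inv_mul_cancel] at this
  set b := (M * Mᵀ) x₀ y₀ with hb
  set d := (M * Mᵀ) x₀ x₀ with hd
  have hdval : d = k := by
    rw [hd, Matrix.mul_apply, ← hrow x₀]
    refine Finset.sum_congr rfl fun y _ => ?_
    show (if _ then (1 : ℤ) else 0) * (if _ then 1 else 0) = if _ then (1 : ℤ) else 0
    split_ifs <;> rfl
  have hform := hMM.eq_aI_add_bJ h2 hne
  have hrowMM : d + b * ((n : ℤ) - 1) = (k : ℤ) ^ 2 := by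
    have h1 : ∑ z, (M * Mᵀ) x₀ z = (k : ℤ) ^ 2 := by
      simp only [Matrix.mul_apply, Matrix.transpose_apply]
      rw [Finset.sum_comm]
      simp only [← Finset.mul_sum, hcol, ← Finset.sum_mul, hrow]
      ring
    rw [← h1, Finset.sum_congr rfl (fun z _ => hform x₀ z), ← hb, ← hd,
      Finset.sum_eq_add_sum_sdiff_singleton_of_mem (Finset.mem_univ x₀), if_pos rfl,
      Finset.sum_congr rfl (fun z hz => if_neg (fun h => (Finset.mem_sdiff.mp hz).2 (by simp [h]))),
      Finset.sum_const, Finset.card_sdiff, nsmul_eq_mul]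
    simp only [Finset.inter_univ, Finset.card_singleton, Finset.card_univ]
    rw [Nat.cast_sub (by omega)]
    push_cast
    ring
  set a : ℤ := k - b with hadef
  have hrel : a * ((n : ℤ) - 1) = (k : ℤ) * ((n : ℤ) - k) := by
    rw [hdval] at hrowMM
    rw [hadef]
    linear_combination -hrowMM
  have hkn' : (k : ℤ) < n := by exact_mod_cast hkn
  have ha : 0 < a := by
    have h1 : (0 : ℤ) < k * ((n : ℤ) - k) := mul_pos (by exact_mod_cast hk0) (by linarith)
    rw [← hrel] at h1
    exact (pos_iff_pos_of_mul_pos h1).mpr (by have : (1 : ℤ) < n := by exact_mod_cast hn1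
                                              linarith)
  have hdetMM : (M.det * M.det) * a = a ^ n * (k : ℤ) ^ 2 := by
    have h1 := det_aI_add_bJ ha.ne' (X := M * Mᵀ) (b := b) (fun x y => by
      rw [hform x y, ← hb, ← hd, hdval, hadef]
      split_ifs <;> ring)
    rw [Matrix.det_mul, Matrix.det_transpose] at h1
    rw [h1, ← hrowMM, hdval, ← hn, hadef]
    ring
  have hdet0 : M.det ≠ 0 := by
    intro h
    rw [h, zero_mul, zero_mul] at hdetMM
    have : (0 : ℤ) < a ^ n * (k : ℤ) ^ 2 := mul_pos (pow_pos ha n) (pow_pos (by exact_mod_cast hk0) 2)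
    linarith
  -- the power
  set m := orderOf α with hm
  have hMm : Inv (1 : MulAut G) (M ^ m) := by
    have := hM.pow m
    rwa [hm, pow_orderOf_eq_one] at this
  have hform' := hMm.eq_aI_add_bJ h2 hne
  set d' := (M ^ m) x₀ y₀ with hd'
  set c : ℤ := (M ^ m) x₀ x₀ - d' with hc
  have hrowm : ∀ j x, ∑ y, (M ^ j) x y = (k : ℤ) ^ j := by
    intro j
    induction j with
    | zero => intro x; simp [Matrix.one_apply]
    | succ j ih =>
      intro x
      simp only [pow_succ, Matrix.mul_apply]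
      rw [Finset.sum_comm]
      simp only [← Finset.mul_sum, hrow, ← Finset.sum_mul, ih]
  have hkm : (k : ℤ) ^ m = c + d' * n := by
    rw [← hrowm m x₀, Finset.sum_congr rfl (fun z _ => hform' x₀ z),
      Finset.sum_eq_add_sum_sdiff_singleton_of_mem (Finset.mem_univ x₀), if_pos rfl,
      Finset.sum_congr rfl (fun z hz => if_neg (fun h => (Finset.mem_sdiff.mp hz).2 (by simp [h]))),
      Finset.sum_const, Finset.card_sdiff, nsmul_eq_mul, hc]
    simp only [Finset.inter_univ, Finset.card_singleton, Finset.card_univ]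
    rw [Nat.cast_sub (by omega)]
    push_cast
    ring
  have hc0 : c ≠ 0 := by
    intro h0
    apply hdet0
    have hz : (M ^ m).det = 0 := by
      refine Matrix.det_zero_of_row_eq hne (funext fun z => ?_)
      rw [hc, sub_eq_zero] at h0
      rw [hform' x₀ z, hform' y₀ z, h0, ite_self, ite_self]
    rw [Matrix.det_pow] at hz
    exact (pow_eq_zero_iff (orderOf_pos α).ne').mp hz
  have hdetm : M.det ^ m * c = c ^ n * (k : ℤ) ^ m := by
    have h1 := det_aI_add_bJ hc0 (X := M ^ m) (b := d') (fun x y => by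
      rw [hform' x y, hc]
      split_ifs <;> ring)
    rw [Matrix.det_pow] at h1
    rw [h1, ← hn, hkm]
  have hpow : a ^ m = c ^ 2 := by
    have hk2 : ((k : ℤ) ^ m) ^ 2 ≠ 0 := by positivity
    have h1 : (a ^ m) ^ (n - 1) = (c ^ 2) ^ (n - 1) := by
      have e : n - 1 + 1 = n := by omega
      have h2 : (M.det ^ m * c) ^ 2 * a ^ m = (M.det * M.det * a) ^ m * c ^ 2 := by ring
      rw [hdetm, hdetMM] at h2
      have h3 : ((a ^ m) ^ (n - 1) * (a ^ m * (((k : ℤ) ^ m) ^ 2) * c ^ 2)) =
          (c ^ 2) ^ (n - 1) * (a ^ m * (((k : ℤ) ^ m) ^ 2) * c ^ 2) := by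
        calc _ = ((a ^ m) ^ (n - 1) * a ^ m) * (((k : ℤ) ^ m) ^ 2) * c ^ 2 := by ring
          _ = (a ^ m) ^ n * (((k : ℤ) ^ m) ^ 2) * c ^ 2 := by rw [← pow_succ, e]
          _ = (a ^ n * (k : ℤ) ^ 2) ^ m * c ^ 2 := by ring
          _ = (c ^ n * (k : ℤ) ^ m) ^ 2 * a ^ m := h2.symm
          _ = (c ^ 2) ^ n * (((k : ℤ) ^ m) ^ 2) * a ^ m := by ring
          _ = ((c ^ 2) ^ (n - 1) * c ^ 2) * (((k : ℤ) ^ m) ^ 2) * a ^ m := by rw [← pow_succ, e]
          _ = _ := by ring
      exact mul_right_cancel₀ (mul_ne_zero (mul_ne_zero (pow_ne_zero _ ha.ne') hk2) (pow_ne_zero _ hc0)) h3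
    exact (pow_left_inj₀ (pow_nonneg ha.le m) (sq_nonneg c) (by omega)).mp h1
  obtain ⟨t, ht⟩ := hα
  have hfin := arith (t := t) (c := c) (by exact_mod_cast hk0 : (0 : ℤ) < k) hkn'
    (by exact_mod_cast (Nat.isCoprime_iff_coprime.mpr hk)) hrel
    (⟨d', by rw [← ht]; linear_combination hkm⟩) (by rw [← ht]; exact hpow)
  have hk' : k = 1 ∨ k = n - 1 := by
    rcases hfin with h | h
    · left; exact_mod_cast h
    · right; omega
  refine ⟨?_, hk'⟩
  have hfix : ∃ w : Ω, ∀ h ∈ stabilizer G o, α h • w = w := by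
    rcases hk' with h | h
    · refine ⟨ω, fun g hg => ?_⟩
      have h1 := (Nat.card_eq_one_iff_unique.mp h).1
      exact congrArg Subtype.val (@Subsingleton.elim _ h1
        (⟨α g • ω, ⟨α g, Subgroup.mem_map_of_mem _ hg⟩, rfl⟩ : orbit K ω) ⟨ω, mem_orbit_self ω⟩)
    · obtain ⟨w, hw⟩ : ∃ w, w ∉ orbit K ω := by
        by_contra! hall
        have : k = n := by
          rw [hkdef, hn, ← Nat.card_eq_fintype_card]
          exact Nat.card_congr (Equiv.subtypeUnivEquiv hall)
        omega
      refine ⟨w, fun g hg => ?_⟩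
      have hcompl : ((orbit K ω)ᶜ : Set Ω).ncard ≤ 1 := by
        rw [Set.ncard_compl, Nat.card_eq_fintype_card, ← Nat.card_coe_set_eq]
        omega
      refine (Set.ncard_le_one (Set.toFinite _)).mp hcompl _ ?_ _ hw
      intro hmem
      apply hw
      have := MulAction.mem_orbit_of_mem_orbit (M := K) (⟨α g, Subgroup.mem_map_of_mem _ hg⟩ : K)⁻¹ hmem
      have e : (⟨α g, Subgroup.mem_map_of_mem _ hg⟩ : K)⁻¹ • (α g • w) = w := inv_smul_smul (α g) w
      rwa [e] at this
  obtain ⟨w, hw⟩ := hfix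
  exact exists_perm_of_fixed o w α hw

/-- A Hall point stabilizer. -/
theorem exists_perm_of_hall [Finite G] [Fintype Ω] (h2 : IsMultiplyPretransitive G Ω 2) (o : Ω)
    (hHall : (Nat.card (stabilizer G o)).Coprime (stabilizer G o).index)
    (α : MulAut G) (hα : Odd (orderOf α)) :
    ∃ σ : Equiv.Perm Ω, ∀ (g : G) (x : Ω), σ (g • x) = α g • σ x := by
  have : IsPretransitive G Ω := isPretransitive_of_is_two_pretransitive
  refine (exists_perm_of_coprime_orbit h2 o α hα o ?_).1
  have h1 : (stabilizer G o).index = Fintype.card Ω := by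
    rw [index_stabilizer_of_transitive, Nat.card_eq_fintype_card]
  rw [h1] at hHall
  refine Nat.Coprime.coprime_dvd_left ?_ hHall
  rw [Nat.card_congr (orbitEquivQuotientStabilizer ((stabilizer G o).map α.toMonoidHom) o),
    ← Subgroup.card_map_of_injective (K := stabilizer G o) (f := α.toMonoidHom) α.injective]
  exact Subgroup.card_quotient_dvd_card _

end Cfsg.Agent.TwistOrbit
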